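import Cfsg.Agent.Lib.Fi23Norm.MaximalCheck
import Cfsg.Agent.Lib.FischerUnique23.Facts
import Cfsg.Agent.S0144

/-!
The normaliser of a 3-central subgroup of order three of the presented Fi23 is a solvable maximal subgroup whose
ninth derived subgroup is not trivial.
-/

set_option autoImplicit false
set_option maxRecDepth 100000

namespace Cfsg.Agent.Fi23Norm.Maximal

open Cfsg.Agent.CosetCert
open Cfsg.Agent.FischerPresented
open Cfsg.Agent.Fi23Ord3
open Cfsg.Agent.FischerPresented.Out23 (tr tr_hom tr_zero tr_mem exists_tr tr_injective)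
open scoped commutatorElement

/-! ### Elements fixing all centralised transpositions -/

theorem fix_all {c : GT} (h : ∀ j : Fin 324, apt c (Extra.P j) = Extra.P j) :
    c ∈ Subgroup.zpowers (x 2) := by
  haveI := Fi23.order_facts.1
  have hi : ∀ i : Fin 81, apt c (Big.P81 i) = Big.P81 i := fun i => h (Big.sigF i)
  set m : Big.M := ⟨c, fun i => ⟨i, hi i⟩⟩
  have hm : Big.rho m = 1 := Equiv.ext fun i => Big.P81_inj (by
    rw [Big.rho_spec, Equiv.Perm.one_apply]; exact hi i)
  set f : Big.rR.ker → Big.rho.ker := fun q => ⟨Subgroup.inclusion Big.R_le_M q, q.2⟩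
  have hf : Function.Injective f := fun a b e =>
    Subtype.ext (Subgroup.inclusion_injective _ (congrArg (fun q : Big.rho.ker => (q : Big.M)) e))
  obtain ⟨q, hq⟩ := ((Nat.bijective_iff_injective_and_card f).2 ⟨hf, le_antisymm
    (Nat.card_le_card_of_injective f hf) (Big.card_ker_le.trans_eq Big.card_ker.symm)⟩).2 ⟨m, hm⟩
  obtain ⟨n, hn, e⟩ := Big.ker_cases q.2
  have hc : c = el (Big.cWord 6 n) := by
    have h1 : ((q : Big.R) : GT) = c := congrArg (fun r : Big.rho.ker => ((r : Big.M) : GT)) hq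
    rw [← h1, e]
    rfl
  have hs := allBelow_spec ker_scalar hn
  simp only [Bool.or_eq_true, Bool.and_eq_true] at hs
  have hx : ∀ k, sameW (Big.cWord 6 n) (rep k (xW 2)) = true → c ∈ Subgroup.zpowers (x 2) := fun k hk => by
    rw [hc, el_eq hk, el_rep]
    exact Subgroup.pow_mem _ (Subgroup.mem_zpowers (el (xW 2))) k
  rcases hs with hk | hk | hk | ⟨hw, hk⟩
  · exact hx 0 hk
  · exact hx 1 hk
  · exact hx 2 hk
  · exfalso
    rw [Bool.not_eq_true'] at hk
    refine Bool.false_ne_true (hk.symm.trans ?_)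
    refine allBelow_true fun j hj => ?_
    rw [Nat.beq_eq, ← apt_el hw (((list_iff 2 Extra.len_fix _).1 ⟨⟨j, hj⟩, rfl⟩).1), ← hc]
    exact h ⟨j, hj⟩
where
  allBelow_true {f : ℕ → Bool} : ∀ {n : ℕ}, (∀ i < n, f i = true) → allBelow f n = true := by
    intro n
    induction n with
    | zero => intro _; rfl
    | succ n ih =>
      intro h
      show Bool.rec false (allBelow f n) (f n) = true
      rw [h n (Nat.lt_succ_self n)]
      exact ih fun i hi => h i (Nat.lt_succ_of_lt hi)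

/-! ### Orbits -/

theorem fixed_mem_N {p : ℕ} (hp : p < 31671) (h : apt (x 2) p = p) : tr ⟨p, hp⟩ ∈ N 2 :=
  centralizer_le_N 2 (Subgroup.mem_centralizer_singleton_iff.2 ((apt_fix_iff _ hp).1 h).symm.eq)

theorem gen_mem {k : ℕ} (hk : k < 5) : el (Extra.gWords.getD k []) ∈ N 2 := Extra.g_mem hk

theorem gen_wok {k : ℕ} (hk : k < 5) : wok (Extra.gWords.getD k []) = true := by
  have h := Extra.g_img ⟨k, hk⟩
  simp only [Extra.imgOK, Bool.and_eq_true] at h
  exact h.1

theorem dep_step {p : ℕ} (hp : p < 31671) (h : dep p ≠ 0) :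
    ent p % 8 < 5 ∧ dep (nxt p) < dep p ∧ nxt p < 31671 ∧ apt (el (Extra.gWords.getD (ent p % 8) [])) p = nxt p := by
  have hf := allBelow_spec forest_ok hp
  rw [show Nat.beq (dep p) 0 = false from Bool.eq_false_iff.2 fun e => h (Nat.eq_of_beq_eq_true e)] at hf
  simp only [cond_false, Bool.and_eq_true, Nat.blt_eq] at hf
  have he : apt (el (Extra.gWords.getD (ent p % 8) [])) p = nxt p := apt_el (gen_wok hf.1) hp
  exact ⟨hf.1, hf.2, he ▸ apt_lt _ hp, he⟩

theorem root_spec : ∀ (fuel : ℕ) {p : ℕ}, p < 31671 → ∃ g ∈ N 2, apt g p = root fuel p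
  | 0, p, _ => ⟨1, one_mem _, apt_one p⟩
  | fuel + 1, p, hp => by
    show ∃ g ∈ N 2, apt g p = bif Nat.beq (dep p) 0 then p else root fuel (nxt p)
    cases hd : Nat.beq (dep p) 0
    · obtain ⟨hk, -, hlt, he⟩ := dep_step hp fun e => by rw [e] at hd; exact Bool.noConfusion hd
      obtain ⟨g, hg, hg'⟩ := root_spec fuel hlt
      exact ⟨g * el (Extra.gWords.getD (ent p % 8) []), mul_mem hg (gen_mem hk), by rw [apt_mul, he, hg']; rfl⟩
    · exact ⟨1, one_mem _, apt_one p⟩

theorem to_root : ∀ p, p < 31671 → ∃ g ∈ N 2, apt g p = 1 ∨ apt g p = 9 ∨ apt (x 2) (apt g p) = apt g p := by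
  suffices h : ∀ d p, p < 31671 → dep p = d →
      ∃ g ∈ N 2, apt g p = 1 ∨ apt g p = 9 ∨ apt (x 2) (apt g p) = apt g p from fun p hp => h _ p hp rfl
  intro d
  induction d using Nat.strong_induction_on with | _ d ih => ?_
  intro p hp hd
  rcases Nat.eq_zero_or_pos d with rfl | hd0
  · refine ⟨1, one_mem _, ?_⟩
    have hf := allBelow_spec forest_ok hp
    rw [hd, show Nat.beq 0 0 = true from rfl] at hf
    simp only [cond_true, Bool.or_eq_true, Nat.beq_eq] at hf
    rw [apt_one, show x 2 = el (xW 2) from rfl, apt_el (Bool.and_eq_true_iff.1 (fix_ok 2)).1 hp]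
    exact hf
  · obtain ⟨hk, hlt, hn, he⟩ := dep_step hp (by omega)
    obtain ⟨g, hg, hg'⟩ := ih _ (hd ▸ hlt) _ hn rfl
    exact ⟨g * el (Extra.gWords.getD (ent p % 8) []), mul_mem hg (gen_mem hk), by rw [apt_mul, he]; exact hg'⟩

/-- A point whose transposition lies in a subgroup. -/
def InK (K : Subgroup GT) (p : ℕ) : Prop := ∃ hp : p < 31671, tr ⟨p, hp⟩ ∈ K

theorem InK.move {K : Subgroup GT} {p : ℕ} (h : InK K p) {g : GT} (hg : g ∈ K) : InK K (apt g p) := by
  obtain ⟨hp, h⟩ := h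
  refine ⟨apt_lt g hp, ?_⟩
  rw [show (⟨apt g p, apt_lt g hp⟩ : Fin 31671) = Out23.hm g ⟨p, hp⟩ from Fin.ext (apt_of_lt g hp), tr_hom]
  exact mul_mem (mul_mem hg h) (inv_mem hg)

theorem InK.back {K : Subgroup GT} {p : ℕ} {g : GT} (hg : g ∈ K) (h : InK K (apt g p)) : InK K p := by
  have := h.move (inv_mem hg)
  rwa [← apt_mul, inv_mul_cancel, apt_one] at this

theorem InK.step {K : Subgroup GT} (hN : N 2 ≤ K) {v : List ℕ} {s t w : ℕ} (hs : InK K s) (hv : wok v = true)
    (e : actF v 0 = s) (hw : w < 31671) (hr : root 32 w = s) (ht : root 32 (actF (twW v) w) = t)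
    (hvt : wok (twW v) = true) : InK K t := by
  obtain ⟨hp, ht'⟩ := hs
  obtain ⟨hp', e'⟩ := el_twW (v := v) (p := s) (by rw [pathOK, hv, e, Nat.beq_refl]; rfl)
  have hK : el (twW v) ∈ K := by rw [e']; exact ht'
  obtain ⟨g, hg, hg'⟩ := root_spec 32 hw
  have h1 : InK K w := InK.back (hN hg) (by rw [hg', hr]; exact ⟨hp, ht'⟩)
  have h2 := h1.move hK
  rw [apt_el hvt hw] at h2
  obtain ⟨g', hg1, hg2⟩ := root_spec 32 h2.choose
  have := h2.move (hN hg1)
  rwa [hg2, ht] at this

theorem eq_top_of_inK {K : Subgroup GT} (hN : N 2 ≤ K) {p : ℕ} (h : InK K p) (hx : apt (x 2) p ≠ p) : K = ⊤ := by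
  obtain ⟨v1, e1, w1, r1, t1, u1⟩ := wit_one
  obtain ⟨v9, e9, w9, r9, t9, u9⟩ := wit_nine
  obtain ⟨g, hg, hgp⟩ := to_root p h.choose
  have both : InK K 1 ∧ InK K 9 := by
    rcases hgp with e | e | e
    · have h1 : InK K 1 := e ▸ h.move (hN hg)
      exact ⟨h1, h1.step hN v1 e1 w1 r1 t1 u1⟩
    · have h9 : InK K 9 := e ▸ h.move (hN hg)
      exact ⟨h9.step hN v9 e9 w9 r9 t9 u9, h9⟩
    · refine absurd ?_ hx
      have hc : x 2 * g = g * x 2 ∨ x 2 * g = g * (x 2)⁻¹ := by
        rcases mem_N.1 (inv_mem hg) with hh | hh <;> [left; right] <;>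
          · conv_rhs => rw [← hh]
            simp [mul_assoc]
      rcases hc with hc | hc
      · rw [← apt_mul, hc, apt_mul] at e
        exact apt_injective g e
      · rw [← apt_mul, hc, apt_mul] at e
        have h2 := congrArg (apt (x 2)) (apt_injective g e)
        rw [← apt_mul, mul_inv_cancel, apt_one] at h2
        exact h2.symm
  have hall : ∀ q : Fin 31671, tr q ∈ K := fun q => by
    obtain ⟨g, hg, hg'⟩ := to_root q q.2
    have hq : InK K q := InK.back (hN hg) (by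
      rcases hg' with e | e | e
      · exact e ▸ both.1
      · exact e ▸ both.2
      · exact ⟨apt_lt g q.2, hN (fixed_mem_N _ e)⟩)
    exact hq.2
  refine eq_top_iff.2 (FischerUnique23.D23_group.2.2 ▸ (Subgroup.closure_le _).2 fun d hd => ?_)
  obtain ⟨q, rfl⟩ := exists_tr hd
  exact hall q

theorem N_ne_top : (N 2 : Subgroup GT) ≠ ⊤ := by
  intro h
  obtain ⟨hp, hj, hmove⟩ := wit_move
  obtain ⟨v1, e1, -, -, -, u1⟩ := wit_one
  set q := actF (twW pathOne) (pnt (fixL 2) 0) with hq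
  have hqlt : q < 31671 := (actF_eq u1 hp).2
  have hx : apt (x 2) (pnt (fixL 2) 0) = pnt (fixL 2) 0 :=
    ((list_iff 2 Extra.len_fix _).1 ⟨⟨0, hj⟩, rfl⟩).2
  have hg : el (twW pathOne) ∈ N 2 := h ▸ Subgroup.mem_top _
  have hfix : apt (x 2) q = q := by
    have e : apt (el (twW pathOne)) (pnt (fixL 2) 0) = q := apt_el u1 hp
    rw [← e, ← apt_mul]
    rcases mem_N.1 (inv_mem hg) with hh | hh
    · rw [show x 2 * el (twW pathOne) = el (twW pathOne) * x 2 by conv_rhs => rw [← hh]; simp [mul_assoc],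
        apt_mul, hx]
    · rw [show x 2 * el (twW pathOne) = el (twW pathOne) * (x 2)⁻¹ by conv_rhs => rw [← hh]; simp [mul_assoc],
        apt_mul]
      refine congrArg (apt (el (twW pathOne))) ?_
      have := congrArg (apt (x 2)⁻¹) hx
      rw [← apt_mul, inv_mul_cancel, apt_one] at this
      exact this.symm
  rw [show x 2 = el (xW 2) from rfl, apt_el (Bool.and_eq_true_iff.1 (fix_ok 2)).1 hqlt] at hfix
  rw [hfix, Nat.beq_refl] at hmove
  exact Bool.noConfusion hmove

theorem isCoatom_N : IsCoatom (N 2 : Subgroup GT) := by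
  refine ⟨N_ne_top, fun K hK => ?_⟩
  by_contra hKne
  have hfix : ∀ p, InK K p → apt (x 2) p = p := fun p hp => by
    by_contra hx
    exact hKne (eq_top_of_inK hK.le hp hx)
  refine hK.not_ge fun k hk => ?_
  have hperm : ∀ (a : GT), a ∈ K → ∀ j : Fin 324, apt (x 2) (apt a (Extra.P j)) = apt a (Extra.P j) :=
    fun a ha j => by
      obtain ⟨hp, hx⟩ := (list_iff 2 Extra.len_fix _).1 ⟨j, rfl⟩
      exact hfix _ (InK.move ⟨hp, hK.le (fixed_mem_N hp hx)⟩ ha)
  have hmem : k * x 2 * k⁻¹ ∈ Subgroup.zpowers (x 2) := fix_all fun j => by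
    rw [apt_mul, apt_mul, hperm _ (inv_mem hk) j, ← apt_mul, mul_inv_cancel, apt_one]
  haveI := Fi23.order_facts.1
  obtain ⟨m, hm⟩ := mem_powers_iff_mem_zpowers.2 hmem
  simp only at hm
  rw [← pow_mod_orderOf, orderOf_x] at hm
  have hlt : m % 3 < 3 := Nat.mod_lt _ (by norm_num)
  refine mem_N.2 ?_
  interval_cases hmm : m % 3
  · exfalso
    rw [pow_zero] at hm
    exact x_ne 2 (conj_eq_one_iff.1 hm.symm)
  · exact Or.inl (by rw [← hm, pow_one])
  · exact Or.inr (by rw [← hm, eq_inv_iff_mul_eq_one, ← pow_succ, x_cube])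

/-! ### Solvability -/

theorem isSolvable_N : Group.IsSolvable (N 2 : Subgroup GT) := by
  haveI := Fi23.order_facts.1
  obtain ⟨h1, h2, h3, -⟩ := Extra.facts
  have hM : Nat.card Extra.M = 82944 := le_antisymm Big.card_M36 Extra.card_M
  have hcard : Nat.card (N 2 : Subgroup GT) = 2 ^ 11 * 3 ^ 13 := by
    have hN : Nat.card Extra.Nb = Nat.card (N 2 : Subgroup GT) := by rw [h1, Subgroup.card_top]
    have hmul := Subgroup.card_eq_card_quotient_mul_card_subgroup Extra.Φb.ker
    rw [Nat.card_congr (QuotientGroup.quotientKerEquivRange Extra.Φb).toEquiv, h2, hM, h3, hN] at hmul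
    rw [hmul]
    norm_num
  exact Cfsg.Agent.S0144.result 2 3 11 13 Nat.prime_two Nat.prime_three hcard

/-! ### The derived chain -/

/-- The point function of an element of the chain. -/
noncomputable def gF (n : ℕ) (j : Fin 324) : Fin 324 :=
  ⟨gp n j, Nat.mod_lt _ (by norm_num)⟩

theorem chain_mem : ∀ n < 162, ∃ h : N 2, (∀ j, Extra.rho h j = gF n j) ∧ h ∈ derivedSeries (N 2) (lev n) := by
  intro n
  induction n using Nat.strong_induction_on with | _ n ih => ?_
  intro hn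
  have hs := allBelow_spec chain_steps hn
  simp only [stepOK, Bool.or_eq_true, Bool.and_eq_true, Nat.beq_eq, Nat.blt_eq] at hs
  rcases hs with ⟨-, hl, hk, hall⟩ | ⟨ha, hb, hlab, hop⟩
  · refine ⟨⟨_, gen_mem hk⟩, fun j => ?_, by rw [hl, derivedSeries_zero]; exact Subgroup.mem_top _⟩
    have hj := allBelow_spec hall j.2
    rw [Nat.beq_eq] at hj
    rw [Extra.rho_el (Extra.g_img ⟨_, hk⟩)]
    exact Fin.ext hj.symm
  · obtain ⟨u, hu, hum⟩ := ih _ ha (by omega)
    obtain ⟨v, hv, hvm⟩ := ih _ hb (by omega)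
    rw [hlab] at hvm
    rcases hop with ⟨-, hl, hall⟩ | ⟨-, hl, hall⟩
    · refine ⟨u * v, fun j => ?_, hl ▸ mul_mem hum hvm⟩
      have hj := allBelow_spec hall j.2
      rw [Nat.beq_eq] at hj
      rw [map_mul, Equiv.Perm.mul_apply, hv, hu]
      exact Fin.ext hj.symm
    · refine ⟨⁅u, v⁆, fun j => ?_, by
        rw [hl, derivedSeries_succ]; exact Subgroup.commutator_mem_commutator hum hvm⟩
      obtain ⟨i, rfl⟩ : ∃ i, Extra.rho v (Extra.rho u i) = j :=
        ⟨(Extra.rho u).symm ((Extra.rho v).symm j), by simp⟩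
      have hj := allBelow_spec hall i.2
      rw [Nat.beq_eq] at hj
      have e : Extra.rho ⁅u, v⁆ (Extra.rho v (Extra.rho u i)) = Extra.rho u (Extra.rho v i) := by
        rw [← Equiv.Perm.mul_apply, ← map_mul, ← Equiv.Perm.mul_apply, ← map_mul, ← Equiv.Perm.mul_apply,
          ← map_mul, commutatorElement_def]
        simp only [mul_assoc, inv_mul_cancel_left, inv_mul_cancel, mul_one]
      rw [e]
      simp only [hu, hv]
      exact Fin.ext hj.symm

theorem el_qWord : ∀ {l : List ℕ}, (∀ k ∈ l, k < 9) →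
    el (qWord l) ∈ Extra.Q ∧ ∀ (hm : el (qWord l) ∈ N 2) j, Extra.rho ⟨el (qWord l), hm⟩ j = Extra.qF l j
  | [], _ => ⟨one_mem _, fun hm j => by
      rw [show (⟨el (qWord []), hm⟩ : N 2) = 1 from rfl, map_one]; rfl⟩
  | k :: l, h => by
    obtain ⟨h1, h2⟩ := el_qWord (l := l) fun i hi => h i (List.mem_cons_of_mem _ hi)
    have hk : k < 9 := h k List.mem_cons_self
    have hgk : Extra.gq k ∈ Extra.Q := Extra.gq_mem_T (Nat.zero_le k) hk
    have he : el (qWord (k :: l)) = el (qWord l) * Extra.gq k := by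
      rw [qWord, List.flatMap_cons, el_append]; rfl
    refine ⟨he ▸ mul_mem h1 hgk, fun hm j => ?_⟩
    rw [show (⟨el (qWord (k :: l)), hm⟩ : N 2) = ⟨el (qWord l), Extra.Q_le_N h1⟩ * ⟨Extra.gq k, Extra.Q_le_N hgk⟩
      from Subtype.ext he, map_mul, Equiv.Perm.mul_apply, h2]
    exact congrArg (Extra.qF l) (Extra.rho_el (Extra.q_img ⟨k, hk⟩) (Extra.Q_le_N hgk) j)

theorem qF_value {h : N 2} {l : List ℕ} (hl : ∀ k ∈ l, k < 9) (he : ∀ j, Extra.rho h j = Extra.qF l j) :
    ∃ e ∈ Subgroup.zpowers (x 2), (h : GT) = el (qWord l) * e := by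
  obtain ⟨hQ, hr⟩ := el_qWord hl
  refine ⟨(el (qWord l))⁻¹ * (h : GT), fix_all fun j => ?_, (mul_inv_cancel_left _ _).symm⟩
  have hq : Extra.rho (⟨el (qWord l), Extra.Q_le_N hQ⟩⁻¹ * h) j = j := by
    rw [map_mul, map_inv, Equiv.Perm.mul_apply, he, ← hr (Extra.Q_le_N hQ)]
    exact Equiv.symm_apply_apply _ _
  have := Extra.rho_spec (⟨el (qWord l), Extra.Q_le_N hQ⟩⁻¹ * h) j
  rw [hq] at this
  exact this.symm

theorem derived_nine : derivedSeries (N 2 : Subgroup GT) 9 ≠ ⊥ := by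
  intro hbot
  obtain ⟨hl, ho⟩ := chain_end
  have hs := allBelow_spec chain_steps (show 161 < 162 by norm_num)
  simp only [stepOK, Bool.or_eq_true, Bool.and_eq_true, Nat.beq_eq, Nat.blt_eq] at hs
  rcases hs with ⟨h0, -⟩ | ⟨ha, hb, hlab, ⟨h1, -⟩ | ⟨-, hl2, -⟩⟩
  · omega
  · omega
  obtain ⟨u, hu, hum⟩ := chain_mem _ (show argA 161 < 162 by omega)
  obtain ⟨v, hv, hvm⟩ := chain_mem _ (show argB 161 < 162 by omega)
  rw [hlab] at hvm
  have hA : ∀ k ∈ qA, k < 9 := fun k hk => by simpa using List.all_eq_true.1 q_lt.1 k hk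
  have hB : ∀ k ∈ qB, k < 9 := fun k hk => by simpa using List.all_eq_true.1 q_lt.2 k hk
  obtain ⟨a, hxa, ea⟩ := qF_value hA (h := u) fun j => (hu j).trans (Fin.ext (chain_a j))
  obtain ⟨b, hxb, eb⟩ := qF_value hB (h := v) fun j => (hv j).trans (Fin.ext (chain_b j))
  have hc : ⁅u, v⁆ ∈ derivedSeries (N 2 : Subgroup GT) 9 := by
    rw [← hl, hl2, derivedSeries_succ]
    exact Subgroup.commutator_mem_commutator hum hvm
  rw [hbot, Subgroup.mem_bot, commutatorElement_eq_one_iff_commute] at hc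
  have hc' : Commute (u : GT) v := hc.map (Subgroup.subtype _)
  refine Big.el_ne qAB_words.1 qAB_words.2.1 qAB_words.2.2 ?_
  rw [el_append, el_append]
  have ha2 : el (qWord qA) = (u : GT) * a⁻¹ := by rw [ea, mul_inv_cancel_right]
  have hb2 : el (qWord qB) = (v : GT) * b⁻¹ := by rw [eb, mul_inv_cancel_right]
  have hQa := (el_qWord hA).1
  have hQb := (el_qWord hB).1
  have hab : Commute a⁻¹ (el (qWord qB)) := (Commute.inv_left (by
    obtain ⟨i, rfl⟩ := Subgroup.mem_zpowers_iff.1 hxa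
    exact (Extra.x_central hQb).symm.zpow_left i))
  have hba : Commute b⁻¹ (el (qWord qA)) := (Commute.inv_left (by
    obtain ⟨i, rfl⟩ := Subgroup.mem_zpowers_iff.1 hxb
    exact (Extra.x_central hQa).symm.zpow_left i))
  have hab' : Commute a b := by
    obtain ⟨i, rfl⟩ := Subgroup.mem_zpowers_iff.1 hxa
    obtain ⟨j, rfl⟩ := Subgroup.mem_zpowers_iff.1 hxb
    exact (Commute.refl _).zpow_zpow i j
  have hA' : Commute a (el (qWord qB)) := by simpa using hab.inv_left
  have hB' : Commute b (el (qWord qA)) := by simpa using hba.inv_left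
  have key : Commute (el (qWord qA) * a) (el (qWord qB) * b) := by rw [← ea, ← eb]; exact hc'
  have h3 : Commute (el (qWord qA)) (el (qWord qB)) := by
    have h4 : Commute (el (qWord qA) * a * a⁻¹) (el (qWord qB) * b) :=
      key.mul_left (hab.mul_right hab'.inv_left)
    rw [mul_inv_cancel_right] at h4
    have h5 := h4.mul_right hba.symm
    rwa [mul_inv_cancel_right] at h5
  exact h3.symm.eq

theorem derived_ten : derivedSeries (N 2 : Subgroup GT) 10 ≠ derivedSeries (N 2 : Subgroup GT) 9 := by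
  intro h
  obtain ⟨n, hn⟩ := (Group.isSolvable_def _).1 isSolvable_N
  have hconst : ∀ k, derivedSeries (N 2 : Subgroup GT) (9 + k) = derivedSeries (N 2 : Subgroup GT) 9 := fun k => by
    induction k with
    | zero => rfl
    | succ k ih => rw [← Nat.add_assoc, derivedSeries_succ, ih, ← derivedSeries_succ, h]
  refine derived_nine (le_bot_iff.1 ?_)
  rw [← hconst n, ← hn]
  exact derivedSeries_antitone _ (by omega)

end Cfsg.Agent.Fi23Norm.Maximal
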