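import Cfsg.Agent.Lib.Fi23Norm.BigSeries
import Cfsg.Agent.Lib.Fi23Norm.MaximalData

/-!
Checks for the maximality and the derived length of the normaliser of a 3-central subgroup of order three of the
presented Fi23.
-/

set_option autoImplicit false
set_option maxRecDepth 100000
set_option Elab.async false

namespace Cfsg.Agent.Fi23Norm.Maximal

open Cfsg.Agent.CosetCert
open Cfsg.Agent.Fi23Ord3

/-- An entry of the table of actions. -/
noncomputable def gp (n j : ℕ) : ℕ :=
  Nat.land (Nat.shiftRight ((permTab.getD (n / 16) []).getD (n % 16) 0) (9 * j)) 511 % 324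

/-- The level of an element of the chain. -/
def lev (n : ℕ) : ℕ := (opTab.getD n (0, 0, 0, 0)).1

/-- The operation of an element of the chain. -/
def opn (n : ℕ) : ℕ := (opTab.getD n (0, 0, 0, 0)).2.1

/-- The first argument. -/
def argA (n : ℕ) : ℕ := (opTab.getD n (0, 0, 0, 0)).2.2.1

/-- The second argument. -/
def argB (n : ℕ) : ℕ := (opTab.getD n (0, 0, 0, 0)).2.2.2

/-- A step of the chain. -/
noncomputable def stepOK (n : ℕ) : Bool :=
  (Nat.beq (opn n) 0 && (Nat.beq (lev n) 0 && (Nat.blt (argA n) 5 &&
    allBelow (fun j => Nat.beq (gp n j) (((Extra.gImg.getD (argA n) []).getD j 0) % 324)) 324))) ||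
  (Nat.blt (argA n) n && (Nat.blt (argB n) n && (Nat.beq (lev (argB n)) (lev (argA n)) &&
    ((Nat.beq (opn n) 1 && (Nat.beq (lev n) (lev (argA n)) &&
        allBelow (fun j => Nat.beq (gp n j) (gp (argA n) (gp (argB n) j))) 324)) ||
      (Nat.beq (opn n) 2 && (Nat.beq (lev n) (lev (argA n) + 1) &&
        allBelow (fun j => Nat.beq (gp n (gp (argB n) (gp (argA n) j))) (gp (argA n) (gp (argB n) j))) 324))))))

theorem chain_steps : allBelow stepOK 162 = true := by decide +kernel

theorem chain_end : lev 161 = 9 ∧ opn 161 = 2 := by decide +kernel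

theorem chain_a : ∀ j : Fin 324, gp (argA 161) j = Extra.qF qA j := by decide +kernel

theorem chain_b : ∀ j : Fin 324, gp (argB 161) j = Extra.qF qB j := by decide +kernel

theorem q_lt : (qA.all fun k => Nat.blt k 9) = true ∧ (qB.all fun k => Nat.blt k 9) = true := by decide +kernel

/-- The word of a product of generators of the extraspecial group. -/
noncomputable def qWord (l : List ℕ) : List ℕ := l.flatMap fun k => Extra.qgens.getD k []

theorem qAB_words : wok (qWord qA ++ qWord qB) = true ∧ wok (qWord qB ++ qWord qA) = true ∧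
    sameW (qWord qA ++ qWord qB) (qWord qB ++ qWord qA) = false := by decide +kernel

/-- The packed entry of the forest. -/
noncomputable def ent (p : ℕ) : ℕ := Nat.land (Nat.shiftRight ((forestTab.getD (p / 2048) []).getD (p / 128 % 16) 0) (8 * (p % 128))) 255

/-- The depth in the forest. -/
noncomputable def dep (p : ℕ) : ℕ := ent p / 8

/-- The next point. -/
noncomputable def nxt (p : ℕ) : ℕ := actF (Extra.gWords.getD (ent p % 8) []) p

/-- The root of a point. -/
noncomputable def root (fuel p : ℕ) : ℕ :=
  Nat.rec (fun q => q) (fun _ r q => bif Nat.beq (dep q) 0 then q else r (nxt q)) fuel p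

theorem forest_ok : allBelow (fun p =>
    bif Nat.beq (dep p) 0 then (Nat.beq p 1 || (Nat.beq p 9 || Nat.beq (actF (xW 2) p) p))
    else (Nat.blt (ent p % 8) 5 && Nat.blt (dep (nxt p)) (dep p))) 31671 = true := by decide +kernel

theorem wit_one : wok pathOne = true ∧ actF pathOne 0 = 1 ∧ witOne < 31671 ∧ root 32 witOne = 1 ∧
    root 32 (actF (twW pathOne) witOne) = 9 ∧ wok (twW pathOne) = true := by decide +kernel

theorem wit_nine : wok pathNine = true ∧ actF pathNine 0 = 9 ∧ witNine < 31671 ∧ root 32 witNine = 9 ∧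
    root 32 (actF (twW pathNine) witNine) = 1 ∧ wok (twW pathNine) = true := by decide +kernel

theorem wit_move : pnt (fixL 2) 0 < 31671 ∧ 0 < 324 ∧
    Nat.beq (actF (xW 2) (actF (twW pathOne) (pnt (fixL 2) 0))) (actF (twW pathOne) (pnt (fixL 2) 0)) =
      false := by decide +kernel

theorem ker_scalar : allBelow (fun n =>
    sameW (Big.cWord 6 n) (rep 0 (xW 2)) || (sameW (Big.cWord 6 n) (rep 1 (xW 2)) ||
      (sameW (Big.cWord 6 n) (rep 2 (xW 2)) || (wok (Big.cWord 6 n) &&
        !(allBelow (fun j => Nat.beq (actF (Big.cWord 6 n) (pnt (fixL 2) j)) (pnt (fixL 2) j)) 324))))) 27 = true := by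
  decide +kernel

end Cfsg.Agent.Fi23Norm.Maximal
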